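import Groth.Agent.GeomRedFibLib.CplMap
import Groth.Agent.CompleteLib.Basic
import Mathlib

/-!
# Unramified and étale maps of completions of local rings
-/

set_option autoImplicit false

universe u

open IsLocalRing

namespace CplEtaleLib

open GeomRedFibLib (Hat)

variable {A B : Type u} [CommRing A] [CommRing B] [IsLocalRing A] [IsLocalRing B] [IsNoetherianRing A]
  [IsNoetherianRing B]

theorem residue_bijective (A : Type u) [CommRing A] [IsLocalRing A] [IsNoetherianRing A] :
    Function.Bijective (ResidueField.map (algebraMap A (Hat A))) := by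
  refine ⟨RingHom.injective _, fun z => ?_⟩
  obtain ⟨z, rfl⟩ := Ideal.Quotient.mk_surjective z
  obtain ⟨a, ha⟩ := AdicRingLib.exists_sub_mem_map_pow (IsNoetherian.noetherian (maximalIdeal A)) 1 z
  rw [pow_one, ← AdicCompletion.maximalIdeal_eq_map] at ha
  exact ⟨residue A a, (Ideal.Quotient.eq.2 ha).symm⟩

variable [Algebra A B] [IsLocalHom (algebraMap A B)]

section

variable [Algebra (Hat A) (Hat B)] [IsLocalHom (algebraMap (Hat A) (Hat B))]
  (hc : (algebraMap (Hat A) (Hat B)).comp (algebraMap A (Hat A)) = (algebraMap B (Hat B)).comp (algebraMap A B))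

include hc

theorem residue_square (z : ResidueField A) :
    algebraMap (ResidueField (Hat A)) (ResidueField (Hat B)) (ResidueField.map (algebraMap A (Hat A)) z) =
      ResidueField.map (algebraMap B (Hat B)) (algebraMap (ResidueField A) (ResidueField B) z) := by
  obtain ⟨a, rfl⟩ := residue_surjective z
  show residue (Hat B) (algebraMap (Hat A) (Hat B) (algebraMap A (Hat A) a)) =
    residue (Hat B) (algebraMap B (Hat B) (algebraMap A B a))
  rw [← RingHom.comp_apply (algebraMap (Hat A) (Hat B)), hc]
  rfl

theorem separable_iff :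
    Algebra.IsSeparable (ResidueField (Hat A)) (ResidueField (Hat B)) ↔
      Algebra.IsSeparable (ResidueField A) (ResidueField B) :=
  (Algebra.IsSeparable.iff_of_equiv_equiv (RingEquiv.ofBijective _ (residue_bijective A))
    (RingEquiv.ofBijective _ (residue_bijective B)) (RingHom.ext (residue_square hc))).symm

theorem finite_residueField [Module.Finite (ResidueField A) (ResidueField B)] :
    Module.Finite (ResidueField (Hat A)) (ResidueField (Hat B)) :=
  Module.Finite.of_equiv_equiv (RingEquiv.ofBijective _ (residue_bijective A))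
    (RingEquiv.ofBijective _ (residue_bijective B)) (RingHom.ext (residue_square hc))

end

variable (ψ : Hat A →+* Hat B)
  (hψ : ψ.comp (algebraMap A (Hat A)) = (algebraMap B (Hat B)).comp (algebraMap A B))

include hψ

theorem map_eq_iff :
    (maximalIdeal (Hat A)).map ψ = maximalIdeal (Hat B) ↔
      (maximalIdeal A).map (algebraMap A B) = maximalIdeal B := by
  rw [AdicCompletion.maximalIdeal_eq_map, AdicCompletion.maximalIdeal_eq_map, Ideal.map_map, hψ, ← Ideal.map_map]
  haveI := GeomRedFibLib.faithfullyFlat_hat B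
  constructor
  · intro h
    rw [← Ideal.comap_map_eq_self_of_faithfullyFlat (B := Hat B) ((maximalIdeal A).map (algebraMap A B)), h,
      Ideal.comap_map_eq_self_of_faithfullyFlat]
  · intro h
    rw [h]

/-- An unramified finite residual extension gives a finite map of completions. -/
theorem finite_cplMap (hm : (maximalIdeal A).map (algebraMap A B) = maximalIdeal B)
    [Module.Finite (ResidueField A) (ResidueField B)] : ψ.Finite := by
  haveI hloc := GeomRedFibLib.isLocalHom_cplMap ψ hψ
  have hmap := (map_eq_iff ψ hψ).2 hm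
  algebraize [ψ]
  haveI : IsLocalHom (algebraMap (Hat A) (Hat B)) := hloc
  let I : Ideal (Hat A) := maximalIdeal (Hat A)
  haveI : IsAdicComplete I (Hat A) := by
    show IsAdicComplete (maximalIdeal (Hat A)) (Hat A)
    rw [AdicCompletion.maximalIdeal_eq_map]
    exact (IsAdicComplete.map_algebraMap_iff _ _).2 (AdicCompletion.isAdicComplete (IsNoetherian.noetherian _))
  haveI : IsAdicComplete (maximalIdeal (Hat B)) (Hat B) := by
    rw [AdicCompletion.maximalIdeal_eq_map]
    exact (IsAdicComplete.map_algebraMap_iff _ _).2 (AdicCompletion.isAdicComplete (IsNoetherian.noetherian _))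
  haveI : IsHausdorff I (Hat B) := by
    refine (IsAdicComplete.map_algebraMap_iff I (Hat B) (S := Hat B)).1 ?_ |>.toIsHausdorff
    show IsAdicComplete ((maximalIdeal (Hat A)).map ψ) (Hat B)
    rw [hmap]; infer_instance
  refine CompleteLib.finite_of_quotient_finite (I := I) ?_
  haveI : Module.Finite (ResidueField (Hat A)) (ResidueField (Hat B)) := finite_residueField (A := A) (B := B) hψ
  haveI : Module.Finite (Hat A) (ResidueField (Hat B)) := Module.Finite.trans (ResidueField (Hat A)) _
  haveI : Module.Finite (Hat A) (Hat B ⧸ maximalIdeal (Hat B)) := ‹Module.Finite (Hat A) (ResidueField (Hat B))›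
  have hsub : (I • ⊤ : Submodule (Hat A) (Hat B)) = (maximalIdeal (Hat B)).restrictScalars (Hat A) := by
    rw [Ideal.smul_top_eq_map]
    exact congrArg (fun J : Ideal (Hat B) => J.restrictScalars (Hat A)) hmap
  rw [hsub]
  exact Module.Finite.equiv (Submodule.Quotient.restrictScalarsEquiv (Hat A) (maximalIdeal (Hat B))).symm

theorem unramified_iff [Algebra.EssFiniteType A B] :
    ((maximalIdeal A).map (algebraMap A B) = maximalIdeal B ∧
        Module.Finite (ResidueField A) (ResidueField B) ∧
        Algebra.IsSeparable (ResidueField A) (ResidueField B)) ↔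
      (ψ.FiniteType ∧ ψ.FormallyUnramified) := by
  haveI hloc := GeomRedFibLib.isLocalHom_cplMap ψ hψ
  constructor
  · rintro ⟨hm, hf, hs⟩
    have hfin := finite_cplMap ψ hψ hm
    refine ⟨hfin.finiteType, ?_⟩
    algebraize [ψ]
    haveI : IsLocalHom (algebraMap (Hat A) (Hat B)) := hloc
    haveI : Algebra.IsSeparable (ResidueField (Hat A)) (ResidueField (Hat B)) :=
      (separable_iff (A := A) (B := B) hψ).2 hs
    exact Algebra.FormallyUnramified.of_map_maximalIdeal ((map_eq_iff ψ hψ).2 hm)
  · rintro ⟨hft, hun⟩
    algebraize [ψ]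
    haveI : IsLocalHom (algebraMap (Hat A) (Hat B)) := hloc
    haveI hsep' : Algebra.IsSeparable (ResidueField (Hat A)) (ResidueField (Hat B)) := inferInstance
    have hm := (map_eq_iff ψ hψ).1 Algebra.FormallyUnramified.map_maximalIdeal
    haveI : Algebra.IsSeparable (ResidueField A) (ResidueField B) := (separable_iff (A := A) (B := B) hψ).1 hsep'
    haveI := Algebra.FormallyUnramified.of_map_maximalIdeal hm
    exact ⟨hm, inferInstance, inferInstance⟩

theorem etale_iff [Algebra.EssFiniteType A B] :
    (Module.Flat A B ∧ (maximalIdeal A).map (algebraMap A B) = maximalIdeal B ∧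
        Module.Finite (ResidueField A) (ResidueField B) ∧
        Algebra.IsSeparable (ResidueField A) (ResidueField B)) ↔ ψ.Etale := by
  rw [RingHom.Etale.iff_flat_and_formallyUnramified]
  constructor
  · rintro ⟨hflat, h⟩
    obtain ⟨hft, hun⟩ := (unramified_iff ψ hψ).1 h
    haveI := AdicRingLib.isNoetherianRing_adicCompletion (maximalIdeal A)
    refine ⟨GeomRedFibLib.flat_cplMap ψ hψ, hun, ?_⟩
    algebraize [ψ]
    exact Algebra.FinitePresentation.of_finiteType.1 ‹_›
  · rintro ⟨hflat, hun, hfp⟩
    exact ⟨GeomRedFibLib.flat_of_flat_cplMap ψ hψ hflat, (unramified_iff ψ hψ).2 ⟨RingHom.FiniteType.of_finitePresentation hfp, hun⟩⟩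

theorem exists_basis [Algebra.EssFiniteType A B] (h : ψ.Etale) :
    letI := ψ.toAlgebra
    ∃ n : ℕ, 0 < n ∧ Nonempty ((Fin n → Hat A) ≃ₗ[Hat A] Hat B) := by
  obtain ⟨-, hm, hf, -⟩ := (etale_iff ψ hψ).2 h
  have hfin := finite_cplMap ψ hψ hm
  have hflat := (RingHom.Etale.iff_flat_and_formallyUnramified.1 h).1
  algebraize [ψ]
  haveI := AdicRingLib.isNoetherianRing_adicCompletion (maximalIdeal A)
  haveI : Module.Free (Hat A) (Hat B) := Module.free_of_flat_of_isLocalRing
  let b := Module.finBasis (Hat A) (Hat B)
  refine ⟨Module.finrank (Hat A) (Hat B), Nat.pos_of_ne_zero fun h0 => ?_, ⟨b.equivFun.symm⟩⟩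
  haveI : IsEmpty (Fin (Module.finrank (Hat A) (Hat B))) := by rw [h0]; infer_instance
  exact one_ne_zero (b.equivFun.injective (funext fun i => isEmptyElim i) : (1 : Hat B) = 0)

end CplEtaleLib
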